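import Cfsg.Agent.Lib.PowMap.Basic
import Cfsg.Agent.Lib.CharExt.Inertia
import Cfsg.Agent.Lib.CharExt.Characters
import Cfsg.Agent.Lib.Chars.Integral

/-!
# Extending a character fixed by an inverting power map

If N has odd index and k inverts every element of odd order, an invariant irreducible character of N
fixed by the k-th power map extends: twisting the intertwiners by the Galois automorphism gives the
splitting exponent k - 1, prime to the index.
-/

set_option autoImplicit false

namespace Cfsg.Agent.Lib.PowMap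

open Cfsg Cfsg.Agent.Lib
open Representation

universe u

/-- The semilinear action of a ring map on endomorphisms of coordinate space. -/
noncomputable def galEnd (s : ℂ →+* ℂ) (n : ℕ) :
    Module.End ℂ (Fin n → ℂ) →+* Module.End ℂ (Fin n → ℂ) :=
  ((Matrix.toLinAlgEquiv' (R := ℂ) (n := Fin n)).toRingEquiv.toRingHom).comp
    (s.mapMatrix.comp (LinearMap.toMatrixAlgEquiv' (R := ℂ) (n := Fin n)).toRingEquiv.toRingHom)

theorem galEnd_algebraMap (s : ℂ →+* ℂ) (n : ℕ) (c : ℂ) :
    galEnd s n (algebraMap ℂ _ c) = algebraMap ℂ _ (s c) := by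
  show Matrix.toLinAlgEquiv' (s.mapMatrix (LinearMap.toMatrixAlgEquiv' (algebraMap ℂ _ c))) = _
  rw [AlgEquiv.commutes]
  have : s.mapMatrix (algebraMap ℂ (Matrix (Fin n) (Fin n) ℂ) c) =
      algebraMap ℂ (Matrix (Fin n) (Fin n) ℂ) (s c) := by
    rw [Matrix.algebraMap_eq_diagonal, Matrix.algebraMap_eq_diagonal, RingHom.mapMatrix_apply,
      Matrix.diagonal_map (map_zero s)]
    rfl
  rw [this, AlgEquiv.commutes]

variable {G : Type u} [Group G] [Finite G]

/-- The exponent k - 1 splits: some linear character of the intertwiner group is trivial on N and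
the (k - 1)-th power on scalars. -/
theorem sub_one_mem_splitExponents (N : Subgroup G) [N.Normal] {k : ℕ}
    (hk : k.Coprime (Nat.card G)) {n : ℕ} (τ : Representation ℂ N (Fin n → ℂ)) [IsIrreducible τ]
    (hfix : ∀ x : N, τ.character (x ^ k) = τ.character x) :
    ((k : ℤ) - 1) ∈ CharExt.splitExponents N τ := by
  classical
  have hnt := CharExt.nontrivial_of_isIrreducible τ
  obtain ⟨s, hs⟩ := GaloisChar.exists_ringEquiv_pow
    (Nat.mul_pos (Nat.card_pos (α := G)) (Nat.card_pos (α := G))) (hk.mul_right hk)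
  -- the twisted representation is equivalent to the given one
  let τs : Representation ℂ N (Fin n → ℂ) := (galEnd (s : ℂ →+* ℂ) n).toMonoidHom.comp τ
  have hτs : τ.character = τs.character := funext fun x => by
    have h1 : τ.character (x ^ k) = (s : ℂ →+* ℂ) (τ.character x) :=
      char_pow_eq_gal (s : ℂ →+* ℂ) (fun ζ hζ => hs ζ (orderOf_dvd_iff_pow_eq_one.1
        ((orderOf_dvd_iff_pow_eq_one.2 hζ).trans (dvd_mul_of_dvd_left N.card_subgroup_dvd_card _))))
        ⟨n, τ, rfl⟩ x
    rw [← hfix x, h1, ← GaloisChar.galRep_character]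
    rfl
  obtain ⟨e⟩ := CharExt.nonempty_equiv_of_char_eq τ τs hτs.symm
  let Φ : Module.End ℂ (Fin n → ℂ) →+* Module.End ℂ (Fin n → ℂ) :=
    e.toLinearEquiv.symm.conjRingEquiv.toRingHom.comp (galEnd (s : ℂ →+* ℂ) n)
  have hΦτ : ∀ x : N, Φ (τ x) = τ x := fun x => by
    refine LinearMap.ext fun v => ?_
    change e.toLinearEquiv.symm (τs x (e.toLinearEquiv.symm.symm v)) = τ x v
    rw [LinearEquiv.symm_apply_eq, LinearEquiv.symm_symm]
    exact (LinearMap.congr_fun (e.isIntertwining' x) v).symm
  have hΦc : ∀ c : ℂ, Φ (algebraMap ℂ _ c) = algebraMap ℂ _ (s c) := fun c => by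
    show e.toLinearEquiv.symm.conjRingEquiv (galEnd (s : ℂ →+* ℂ) n (algebraMap ℂ _ c)) = _
    rw [galEnd_algebraMap]
    refine LinearMap.ext fun v => ?_
    change e.toLinearEquiv.symm ((s c : ℂ) • (e.toLinearEquiv.symm.symm v)) = (s c : ℂ) • v
    rw [map_smul, LinearEquiv.symm_symm, LinearEquiv.symm_apply_apply]
  -- the induced map on the intertwiner group
  let I := CharExt.intertwinerGroup N τ
  let Ψ : I →* I := MonoidHom.codRestrict
    ((CharExt.projG N τ).prod ((Units.map Φ.toMonoidHom).comp (CharExt.projT N τ))) I fun y x => by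
      show Φ _ * τ x = τ _ * Φ _
      have h := congrArg Φ (y.2 x)
      rw [map_mul, map_mul, hΦτ, hΦτ] at h
      exact h
  have hex : ∀ y : I, ∃ c : ℂˣ, Ψ y = y * CharExt.inclScalar N τ c := fun y =>
    CharExt.exists_scalar_of_projG_eq N τ rfl
  choose cc hcc using hex
  have hinj : Function.Injective (CharExt.inclScalar N τ) := fun a b h =>
    CharExt.scalarUnit_injective (congrArg (CharExt.projT N τ) h)
  have hccmul : ∀ y z : I, cc (y * z) = cc y * cc z := by
    intro y z
    apply hinj
    apply mul_left_cancel (a := y * z)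
    rw [← hcc, map_mul, hcc, hcc, map_mul]
    calc y * CharExt.inclScalar N τ (cc y) * (z * CharExt.inclScalar N τ (cc z))
        = y * (CharExt.inclScalar N τ (cc y) * z) * CharExt.inclScalar N τ (cc z) := by
          simp only [mul_assoc]
      _ = y * (z * CharExt.inclScalar N τ (cc y)) * CharExt.inclScalar N τ (cc z) := by
          rw [(CharExt.inclScalar_central N τ (cc y) z).eq]
      _ = _ := by simp only [mul_assoc]
  have hccN : ∀ x : N, cc (CharExt.inclN N τ x) = 1 := fun x => by
    apply hinj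
    apply mul_left_cancel (a := CharExt.inclN N τ x)
    rw [← hcc, map_one, mul_one]
    exact CharExt.intertwinerGroup_ext N τ rfl (Units.ext (hΦτ x))
  have hccS : ∀ a : ℂˣ, cc (CharExt.inclScalar N τ a) * a = Units.map (s : ℂ →+* ℂ).toMonoidHom a := by
    intro a
    apply hinj
    rw [map_mul, (CharExt.inclScalar_central N τ _ _).eq, ← hcc]
    exact CharExt.intertwinerGroup_ext N τ rfl (Units.ext (hΦc (a : ℂ)))
  -- roots of unity of order dividing the square of the group order
  set m : ℤ := (k : ℤ) - 1 with hm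
  have hroot : ∀ a : ℂˣ, a ^ (Nat.card G * Nat.card G) = 1 →
      cc (CharExt.inclScalar N τ a) = a ^ m := by
    intro a ha
    have h1 : Units.map (s : ℂ →+* ℂ).toMonoidHom a = a ^ k := Units.ext (by
      show s (a : ℂ) = _
      rw [hs _ (by rw [← Units.val_pow_eq_pow_val, ha, Units.val_one]), Units.val_pow_eq_pow_val])
    have h2 := hccS a
    rw [h1] at h2
    rw [hm, zpow_sub_one, zpow_natCast, ← h2, mul_inv_cancel_right]
  have hdN : n ∣ Nat.card G := by
    obtain ⟨d, -, hd, hdvd⟩ := Chars.irr_degree_dvd_card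
      (⟨τ.character, n, τ, inferInstance, rfl⟩ : IrrCharacter N)
    have h1 : τ.character 1 = (d : ℂ) := hd
    rw [Representation.char_one, Module.finrank_fin_fun, Nat.cast_inj] at h1
    exact h1 ▸ hdvd.trans N.card_subgroup_dvd_card
  choose α hα using fun y : I => CharExt.exists_mem_finiteIntertwiners N τ y
  have hdet : ∀ (y : I) (a : ℂˣ), y * CharExt.inclScalar N τ a ∈ CharExt.finiteIntertwiners N τ →
      CharExt.detHom N τ y * a ^ n = 1 := by
    intro y a h
    rw [CharExt.finiteIntertwiners, MonoidHom.mem_ker, map_mul, CharExt.detHom_inclScalar,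
      Module.finrank_fin_fun] at h
    exact h
  let φ₀ : I → ℂˣ := fun y => cc (y * CharExt.inclScalar N τ (α y)) * (α y ^ m)⁻¹
  have hwd : ∀ (y : I) (a : ℂˣ), y * CharExt.inclScalar N τ a ∈ CharExt.finiteIntertwiners N τ →
      φ₀ y = cc (y * CharExt.inclScalar N τ a) * (a ^ m)⁻¹ := by
    intro y a ha
    obtain ⟨z, hαy⟩ : ∃ z : ℂˣ, α y = a * z := ⟨a⁻¹ * α y, (mul_inv_cancel_left _ _).symm⟩
    have hzn : z ^ n = 1 := by
      have h2 := hdet y (α y) (hα y)
      rw [hαy, mul_pow, ← mul_assoc, hdet y a ha, one_mul] at h2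
      exact h2
    have hzG : z ^ (Nat.card G * Nat.card G) = 1 := by
      obtain ⟨t, ht⟩ := hdN.trans (dvd_mul_right (Nat.card G) (Nat.card G))
      rw [ht, pow_mul, hzn, one_pow]
    show cc (y * CharExt.inclScalar N τ (α y)) * (α y ^ m)⁻¹ = _
    rw [hαy, map_mul, ← mul_assoc, hccmul, hroot z hzG, mul_zpow, mul_inv, mul_mul_mul_comm,
      mul_inv_cancel, mul_one]
  have hmul : ∀ y z : I, φ₀ (y * z) = φ₀ y * φ₀ z := by
    intro y z
    have he : y * z * CharExt.inclScalar N τ (α y * α z) =
        (y * CharExt.inclScalar N τ (α y)) * (z * CharExt.inclScalar N τ (α z)) := by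
      rw [map_mul]
      calc y * z * (CharExt.inclScalar N τ (α y) * CharExt.inclScalar N τ (α z))
          = y * (z * CharExt.inclScalar N τ (α y)) * CharExt.inclScalar N τ (α z) := by
            simp only [mul_assoc]
        _ = y * (CharExt.inclScalar N τ (α y) * z) * CharExt.inclScalar N τ (α z) := by
            rw [(CharExt.inclScalar_central N τ (α y) z).eq]
        _ = _ := by simp only [mul_assoc]
    rw [hwd (y * z) (α y * α z) (he ▸ mul_mem (hα y) (hα z)), he, hccmul, mul_zpow, mul_inv,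
      mul_mul_mul_comm]
  refine ⟨MonoidHom.mk' φ₀ hmul, fun x => ?_, fun c => ?_⟩
  · show φ₀ _ = 1
    set y := CharExt.inclN N τ x
    have hdy : CharExt.detHom N τ y ^ Nat.card G = 1 := by
      obtain ⟨t, ht⟩ := N.card_subgroup_dvd_card
      rw [← map_pow, ← map_pow, ht, pow_mul, pow_card_eq_one', one_pow, map_one, map_one]
    have hα1 : α y ^ (Nat.card G * Nat.card G) = 1 := by
      obtain ⟨t, ht⟩ := hdN
      have h1 : α y ^ n = (CharExt.detHom N τ y)⁻¹ := eq_inv_of_mul_eq_one_right (hdet y _ (hα y))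
      rw [show Nat.card G * Nat.card G = n * (Nat.card G * t) by rw [ht]; ring, pow_mul, h1,
        pow_mul, inv_pow, hdy, inv_one, one_pow]
    show cc (y * CharExt.inclScalar N τ (α y)) * (α y ^ m)⁻¹ = 1
    rw [hccmul, hccN, one_mul, hroot _ hα1, mul_inv_cancel]
  · show φ₀ _ = c ^ m
    have he : CharExt.inclScalar N τ c * CharExt.inclScalar N τ c⁻¹ = 1 := by
      rw [← map_mul, mul_inv_cancel, map_one]
    rw [hwd _ c⁻¹ (he ▸ one_mem _), he]
    have h1 : cc 1 = 1 := by
      have := hccmul 1 1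
      rw [mul_one] at this
      exact mul_eq_left.mp this.symm
    rw [h1, one_mul, inv_zpow, inv_inv]

/-- An invariant character fixed by the power map extends. -/
theorem exists_extension_of_fixed (N : Subgroup G) [N.Normal] (hidx : Odd N.index) {k : ℕ}
    (hk : k.Coprime (Nat.card G)) (hk₂ : ∀ g : G, Odd (orderOf g) → g ^ k = g⁻¹)
    {θ : N → ℂ} (hθ : IsIrrCharacter N θ) (hfix : ∀ x : N, θ (x ^ k) = θ x)
    (hinv : ∀ (g : G) (x : N), θ ⟨g * x * g⁻¹, Subgroup.Normal.conj_mem ‹N.Normal› x x.2 g⟩ = θ x) :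
    ∃ χ : G → ℂ, IsIrrCharacter G χ ∧ ∀ x : N, χ x = θ x := by
  classical
  obtain ⟨n, τ, hτ, rfl⟩ := hθ
  refine CharExt.exists_irrCharacter_of_extension N τ _ rfl ?_
  have hsurj := CharExt.projG_surjective_of_char_invariant N τ _ rfl hinv
  refine CharExt.exists_extension_of_one_mem N τ hsurj (CharExt.one_mem_of_forall_prime _ ?_)
  intro p hp
  by_cases hpi : p ∣ N.index
  · refine ⟨_, sub_one_mem_splitExponents N hk τ hfix, fun hd => ?_⟩
    haveI := Fact.mk hp
    obtain ⟨g, hg⟩ := exists_prime_orderOf_dvd_card' (G := G) p (hpi.trans N.index_dvd_card)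
    have hp2 : p ≠ 2 := by
      rintro rfl
      exact Nat.not_even_iff_odd.2 hidx (even_iff_two_dvd.2 hpi)
    have h1 : g ^ k = g⁻¹ := hk₂ g (hg ▸ hp.odd_of_ne_two hp2)
    have h2 : p ∣ k + 1 := hg ▸ orderOf_dvd_iff_pow_eq_one.2 (by rw [pow_succ, h1, inv_mul_cancel])
    have h3 : (p : ℤ) ∣ 2 := by
      have := dvd_sub (Int.natCast_dvd_natCast.2 h2) hd
      simpa using this
    exact hp2 ((Nat.prime_dvd_prime_iff_eq hp Nat.prime_two).1 (by exact_mod_cast h3))
  · refine ⟨(N.index : ℤ), CharExt.index_mem_splitExponents N τ hsurj N le_rfl τ (fun x => rfl), ?_⟩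
    exact fun h => hpi (Int.natCast_dvd_natCast.1 h)

end Cfsg.Agent.Lib.PowMap
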