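import Cfsg.Agent.Lib.PowMap.Extension
import Cfsg.Agent.Lib.Chars.Real
import Cfsg.Agent.Lib.Chars.Ops
import Cfsg.Agent.Lib.Clifford.Gallagher
import Cfsg.Agent.Lib.Clifford.Correspondence

/-!
# Fixed characters above a fixed character of a normal subgroup of odd index
-/

set_option autoImplicit false

namespace Cfsg.Agent.Lib.PowMap

open Cfsg Cfsg.Agent.Lib
open scoped ComplexConjugate

universe u

variable {G : Type u} [Group G] [Finite G]

/-- In a quotient of odd order the power map inverts. -/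
theorem quotient_pow_eq_inv (N : Subgroup G) [N.Normal] (hidx : Odd N.index) {k : ℕ}
    (hk₂ : ∀ g : G, Odd (orderOf g) → g ^ k = g⁻¹) (q : G ⧸ N) : q ^ k = q⁻¹ := by
  haveI := Fact.mk Nat.prime_two
  obtain ⟨g, rfl⟩ := QuotientGroup.mk'_surjective N q
  set v := (orderOf g).factorization 2
  have hcop : (2 ^ v).Coprime N.index :=
    ((Nat.prime_two.coprime_iff_not_dvd).2 fun h =>
      Nat.not_even_iff_odd.2 hidx (even_iff_two_dvd.2 h)).pow_left _
  obtain ⟨t, ht1, ht2⟩ := Nat.chineseRemainder hcop 0 1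
  have hodd : Odd (orderOf (g ^ t)) := by
    have hdvd : orderOf (g ^ t) ∣ orderOf g / 2 ^ v := by
      refine orderOf_dvd_of_pow_eq_one ?_
      rw [← pow_mul]
      refine orderOf_dvd_iff_pow_eq_one.1 ?_
      obtain ⟨w, hw⟩ := (Nat.modEq_zero_iff_dvd.1 ht1)
      rw [hw, mul_comm (2 ^ v) w, mul_assoc, Nat.mul_div_cancel' (Nat.ordProj_dvd _ _)]
      exact dvd_mul_left _ _
    exact (Nat.odd_iff.2 (Nat.two_dvd_ne_zero.1
      (Nat.not_dvd_ordCompl Nat.prime_two (orderOf_pos g).ne'))).of_dvd_nat hdvd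
  have hq : ((g ^ t : G) : G ⧸ N) = (g : G ⧸ N) := by
    rw [QuotientGroup.mk_pow]
    conv_rhs => rw [← pow_one (g : G ⧸ N)]
    refine pow_eq_pow_iff_modEq.2 (ht2.of_dvd ?_)
    rw [Subgroup.index]
    exact orderOf_dvd_natCard _
  rw [QuotientGroup.mk'_apply, ← hq, ← QuotientGroup.mk_pow, hk₂ _ hodd, QuotientGroup.mk_inv]

/-- Over an invariant fixed character of a normal subgroup of odd index there is exactly one fixed
character, and it is an extension. -/
theorem exists_fixed_extension (N : Subgroup G) [N.Normal] [Fintype N] (hidx : Odd N.index) {k : ℕ}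
    (hk : k.Coprime (Nat.card G)) (hk₂ : ∀ g : G, Odd (orderOf g) → g ^ k = g⁻¹)
    {θ : N → ℂ} (hθ : IsIrrCharacter N θ) (hfix : ∀ x : N, θ (x ^ k) = θ x)
    (hinv : ∀ g : G, Clifford.conjFun g θ = θ) :
    ∃ χ : G → ℂ, IsIrrCharacter G χ ∧ Clifford.resFun N χ = θ ∧ (∀ g, χ (g ^ k) = χ g) ∧
      ∀ χ' : G → ℂ, IsIrrCharacter G χ' → classInner (Clifford.resFun N χ') θ ≠ 0 →
        (∀ g, χ' (g ^ k) = χ' g) → χ' = χ := by
  classical
  haveI := Fintype.ofFinite G
  haveI : Fintype (G ⧸ N) := Fintype.ofFinite _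
  obtain ⟨θh, hθh, hres⟩ := exists_extension_of_fixed N hidx hk hk₂ hθ hfix
    fun g x => congrFun (hinv g) x
  have hresN : Clifford.resFun N θh = θ := funext hres
  obtain ⟨hirr, hinj, hover⟩ := Clifford.gallagher hθh (N := N) (by rw [hresN]; exact hθ)
  have hQodd : Odd (Nat.card (G ⧸ N)) := hidx
  have hself : classInner θ θ = 1 := Chars.classInner_irr_self (⟨θ, hθ⟩ : IrrCharacter N)
  -- the power of the extension is a linear twist
  have hη : IsIrrCharacter G (fun g => θh (g ^ k)) := isIrrCharacter_pow hk hθh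
  have hηres : Clifford.resFun N (fun g => θh (g ^ k)) = θ := funext fun x => by
    show θh ((x : G) ^ k) = θ x
    rw [← SubmonoidClass.coe_pow, hres, hfix]
  obtain ⟨β₀, hβ₀⟩ := (hover _ hη).1 (by rw [hηres, hresN, hself]; exact one_ne_zero)
  have hθ1 : θh 1 ≠ 0 := Chars.irr_apply_one_ne_zero (⟨θh, hθh⟩ : IrrCharacter G)
  have hβ1 : (β₀ : G ⧸ N → ℂ) 1 = 1 := by
    have h := congrFun hβ₀ 1
    simp only [one_pow, Pi.mul_apply] at h
    refine mul_left_cancel₀ hθ1 ?_
    rw [mul_one]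
    exact h.symm
  obtain ⟨φ₀, hφ₀⟩ := Chars.exists_hom_of_degree_one (Chars.irr_isCharacter β₀) hβ1
  -- a square root of the twist
  set γ : (G ⧸ N) →* ℂˣ := φ₀ ^ ((Nat.card (G ⧸ N) + 1) / 2) with hγ
  have hγ2 : ∀ q, γ q * γ q = φ₀ q := by
    intro q
    obtain ⟨w, hw⟩ := hQodd
    rw [hγ, MonoidHom.pow_apply, ← pow_add,
      show (Nat.card (G ⧸ N) + 1) / 2 + (Nat.card (G ⧸ N) + 1) / 2 = Nat.card (G ⧸ N) + 1 by omega,
      pow_succ, ← map_pow, pow_card_eq_one', map_one, one_mul]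
  have hconjγ : ∀ q, conj ((γ q : ℂ)) = ((γ q)⁻¹ : ℂˣ) := by
    intro q
    rw [← map_inv]
    exact (Chars.isCharacter_inv_apply (Chars.isCharacter_hom γ) q).symm
  -- the k-th power of θh times an inflated character
  have hpowmul : ∀ (β : IrrCharacter (G ⧸ N)) (g : G),
      (θh * (Chars.inflate N β : G → ℂ)) (g ^ k) =
        θh g * ((φ₀ (g : G ⧸ N) : ℂ) * conj ((β : G ⧸ N → ℂ) (g : G ⧸ N))) := by
    intro β g
    show θh (g ^ k) * (β : G ⧸ N → ℂ) ((g ^ k : G) : G ⧸ N) = _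
    rw [QuotientGroup.mk_pow, quotient_pow_eq_inv N hidx hk₂, Chars.irr_inv]
    have h := congrFun hβ₀ g
    rw [h]
    show θh g * (β₀ : G ⧸ N → ℂ) (g : G ⧸ N) * _ = _
    rw [hφ₀, mul_assoc]
  let γI : IrrCharacter (G ⧸ N) := Chars.linIrr γ
  refine ⟨θh * (Chars.inflate N γI : G → ℂ), hirr γI, funext fun x => ?_, fun g => ?_, ?_⟩
  · show θh x * (γ ((x : G) : G ⧸ N) : ℂ) = θ x
    rw [(QuotientGroup.eq_one_iff (x : G)).2 x.2, map_one, Units.val_one, mul_one, hres]
  · rw [hpowmul]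
    show θh g * ((φ₀ (g : G ⧸ N) : ℂ) * conj ((γ (g : G ⧸ N) : ℂ))) = θh g * (γ (g : G ⧸ N) : ℂ)
    rw [hconjγ, ← Units.val_mul, ← hγ2, mul_inv_cancel_right]
  · intro χ' hχ' hov hfix'
    obtain ⟨β, hβ⟩ := (hover χ' hχ').1 (by rw [hresN]; exact hov)
    let β' : IrrCharacter (G ⧸ N) := ⟨fun q => (φ₀ q : ℂ) * conj ((β : G ⧸ N → ℂ) q),
      Chars.isIrrCharacter_hom_mul φ₀ (Chars.irrConj β).2⟩
    have hββ : β' = β := by
      refine hinj ?_
      show θh * (Chars.inflate N β' : G → ℂ) = θh * (Chars.inflate N β : G → ℂ)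
      rw [← hβ]
      funext g
      rw [← hfix' g, hβ, hpowmul]
      rfl
    let μ : IrrCharacter (G ⧸ N) := ⟨fun q => ((γ⁻¹) q : ℂ) * (β : G ⧸ N → ℂ) q,
      Chars.isIrrCharacter_hom_mul γ⁻¹ β.2⟩
    have hμ : ∀ q, ((μ : G ⧸ N → ℂ) q).im = 0 := by
      intro q
      rw [← Complex.conj_eq_iff_im]
      show conj ((((γ q)⁻¹ : ℂˣ) : ℂ) * (β : G ⧸ N → ℂ) q) = _ * (β : G ⧸ N → ℂ) q
      have h : ((φ₀ q : ℂ)) * conj ((β : G ⧸ N → ℂ) q) = (β : G ⧸ N → ℂ) q :=
        congrFun (congrArg Subtype.val hββ) q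
      have hg : conj ((((γ q)⁻¹ : ℂˣ) : ℂ)) = (γ q : ℂ) := by rw [← hconjγ, Complex.conj_conj]
      rw [map_mul, hg]
      conv_rhs => rw [← h]
      rw [← hγ2 q, MonoidHom.inv_apply, Units.val_mul, ← mul_assoc, ← mul_assoc, Units.inv_mul, one_mul]
    have hμ1 := Chars.eq_trivial_of_real_of_odd hQodd μ hμ
    have hβγ : β = γI := by
      refine Subtype.ext (funext fun q => ?_)
      have h : (((γ q)⁻¹ : ℂˣ) : ℂ) * (β : G ⧸ N → ℂ) q = 1 :=
        congrFun (congrArg Subtype.val hμ1) q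
      show _ = (γ q : ℂ)
      calc (β : G ⧸ N → ℂ) q = (γ q : ℂ) * ((((γ q)⁻¹ : ℂˣ) : ℂ) * (β : G ⧸ N → ℂ) q) := by
            rw [← mul_assoc, Units.mul_inv, one_mul]
        _ = (γ q : ℂ) := by rw [h, mul_one]
    rw [hβ, hβγ]

/-- Induction commutes with the power map. -/
theorem indFun_pow [Fintype G] {k : ℕ} (hk : k.Coprime (Nat.card G)) (T : Subgroup G) (ψ : T → ℂ)
    (g : G) : indFun T (fun t => ψ (t ^ k)) g = indFun T ψ (g ^ k) := by
  rw [indFun, indFun]
  congr 1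
  refine Finset.sum_congr rfl fun x _ => ?_
  have hpow : x⁻¹ * g ^ k * x = (x⁻¹ * g * x) ^ k := by
    have h := conj_pow (i := k) (a := x⁻¹) (b := g)
    rw [inv_inv] at h
    exact h.symm
  rw [hpow]
  by_cases hy : x⁻¹ * g * x ∈ T
  · rw [Chars.extendByZero_of_mem _ hy, Chars.extendByZero_of_mem _ (T.pow_mem hy k)]
    rfl
  · rw [Chars.extendByZero_of_not_mem _ hy, Chars.extendByZero_of_not_mem _ fun h => hy ?_]
    have hmem : x⁻¹ * g * x ∈ Subgroup.zpowers ((x⁻¹ * g * x) ^ k) :=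
      mem_zpowers_pow_iff.mpr (Nat.Coprime.coprime_dvd_right (orderOf_dvd_natCard _) hk)
    exact (Subgroup.zpowers_le.2 h) hmem

/-- Over a fixed character of a normal subgroup of odd index lies exactly one fixed character. -/
theorem existsUnique_fixed_over [Fintype G] (N : Subgroup G) [N.Normal] [Fintype N]
    (hidx : Odd N.index) {k : ℕ}
    (hk : k.Coprime (Nat.card G)) (hk₂ : ∀ g : G, Odd (orderOf g) → g ^ k = g⁻¹)
    {θ : N → ℂ} (hθ : IsIrrCharacter N θ) (hfix : ∀ x : N, θ (x ^ k) = θ x) :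
    ∃ χ : IrrCharacter G, (classInner (Clifford.resFun N (χ : G → ℂ)) θ ≠ 0 ∧
        (∀ g, (χ : G → ℂ) (g ^ k) = (χ : G → ℂ) g) ∧
        ((∀ g : G, Clifford.conjFun g θ = θ) → Clifford.resFun N (χ : G → ℂ) = θ)) ∧
      ∀ χ' : IrrCharacter G, classInner (Clifford.resFun N (χ' : G → ℂ)) θ ≠ 0 →
        (∀ g, (χ' : G → ℂ) (g ^ k) = (χ' : G → ℂ) g) → χ' = χ := by
  classical
  have hself : classInner θ θ = 1 := Chars.classInner_irr_self (⟨θ, hθ⟩ : IrrCharacter N)
  by_cases hall : ∀ g : G, Clifford.conjFun g θ = θ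
  · obtain ⟨χ, hχ, hres, hfixχ, huniq⟩ := exists_fixed_extension N hidx hk hk₂ hθ hfix hall
    exact ⟨⟨χ, hχ⟩, ⟨by rw [hres, hself]; exact one_ne_zero, hfixχ, fun _ => hres⟩,
      fun χ' h1 h2 => Subtype.ext (huniq _ χ'.2 h1 h2)⟩
  let T : Subgroup G :=
    { carrier := {g | Clifford.conjFun g θ = θ}
      one_mem' := Clifford.conjFun_one θ
      mul_mem' := fun {a b} ha hb => by
        show Clifford.conjFun (a * b) θ = θ
        rw [Clifford.conjFun_mul, show Clifford.conjFun a θ = θ from ha]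
        exact hb
      inv_mem' := fun {a} ha => by
        show Clifford.conjFun a⁻¹ θ = θ
        calc Clifford.conjFun a⁻¹ θ = Clifford.conjFun a⁻¹ (Clifford.conjFun a θ) := by
              rw [show Clifford.conjFun a θ = θ from ha]
          _ = θ := by rw [← Clifford.conjFun_mul, mul_inv_cancel, Clifford.conjFun_one] }
  haveI : Fintype T := Fintype.ofFinite _
  have hT : ∀ g, g ∈ T ↔ Clifford.conjFun g θ = θ := fun g => Iff.rfl
  have hNT : N ≤ T := fun x hx => funext fun y => by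
    have h := Chars.irr_isClassFunction (⟨θ, hθ⟩ : IrrCharacter N) y ⟨x, hx⟩
    exact h
  haveI : Fintype (N.subgroupOf T) := Fintype.ofFinite _
  let e : (N.subgroupOf T) ≃* N := Subgroup.subgroupOfEquivOfLe hNT
  let θ' : (N.subgroupOf T) → ℂ := fun x => θ (e x)
  have hθ' : IsIrrCharacter (N.subgroupOf T) θ' := Clifford.isIrrCharacter_comp_equiv e hθ
  have hcT : k.Coprime (Nat.card T) := hk.coprime_dvd_right T.card_subgroup_dvd_card
  obtain ⟨ψ, hψ, hψres, hψfix, hψuniq⟩ := exists_fixed_extension (N.subgroupOf T)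
    (show Odd (N.relIndex T) from hidx.of_dvd_nat (Subgroup.relIndex_dvd_index_of_le hNT)) hcT
    (fun t ht => Subtype.ext (hk₂ (t : G) (by rwa [Subgroup.orderOf_coe]))) hθ'
    (fun x => (congrArg θ (map_pow e x k)).trans (hfix (e x)))
    (fun t => funext fun x => congrFun t.2 (e x))
  have hinner : ∀ η : T → ℂ, classInner (Clifford.resFun (N.subgroupOf T) η) θ' =
      classInner (Clifford.resTo hNT η) θ := fun η =>
    Clifford.classInner_comp_equiv e (Clifford.resTo hNT η) θ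
  have hψover : classInner (Clifford.resTo hNT ψ) θ ≠ 0 := by
    rw [← hinner, hψres, show classInner θ' θ' = 1 from
      Chars.classInner_irr_self (⟨θ', hθ'⟩ : IrrCharacter (N.subgroupOf T))]
    exact one_ne_zero
  -- reciprocity
  have hrec : ∀ (η : T → ℂ) (χ : IrrCharacter G), indFun T η = (χ : G → ℂ) →
      classInner (Clifford.resFun T (χ : G → ℂ)) η ≠ 0 := by
    intro η χ h h0
    have h1 := Chars.classInner_indFun_left T η _ (Chars.irr_isClassFunction χ)
    rw [h, Chars.classInner_irr_self, ← Chars.conj_classInner,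
      show (fun t : T => (χ : G → ℂ) t) = Clifford.resFun T (χ : G → ℂ) from rfl, h0, map_zero] at h1
    exact one_ne_zero h1
  let χ₀ : IrrCharacter G :=
    ⟨indFun T ψ, Clifford.isIrrCharacter_indFun_inertia hθ hT hNT hψ hψover⟩
  refine ⟨χ₀, ⟨?_, fun g => ?_, fun h => absurd h hall⟩, fun χ' hov hfix' => ?_⟩
  · obtain ⟨-, h2, -, -⟩ := Clifford.clifford_induced hθ hT hNT χ₀.2 hψ (hrec ψ χ₀ rfl) hψover
    rw [← h2]
    exact hψover
  · show indFun T ψ (g ^ k) = indFun T ψ g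
    rw [← indFun_pow hk]
    congr 1
    exact funext hψfix
  · obtain ⟨η, hη, hind, hηov⟩ := Clifford.exists_clifford_correspondent hθ hT hNT χ'.2 hov
    have hηov' : classInner (Clifford.resTo hNT η) θ ≠ 0 := hηov ▸ hov
    obtain ⟨-, -, -, huniq⟩ := Clifford.clifford_induced hθ hT hNT χ'.2 hη (hrec η χ' hind) hηov'
    have hpow : classInner (Clifford.resTo hNT (fun t : T => η (t ^ k))) θ =
        classInner (Clifford.resTo hNT η) θ := by
      rw [classInner, classInner]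
      congr 1
      refine Fintype.sum_bijective _ (bijective_pow (G := N)
        (hk.coprime_dvd_right N.card_subgroup_dvd_card)) _ _ fun x => ?_
      rw [hfix]
      rfl
    have hηfix : (fun t : T => η (t ^ k)) = η := huniq _ (isIrrCharacter_pow hcT hη)
      (hrec _ χ' (funext fun g => by rw [indFun_pow hk, hind]; exact hfix' g))
      (by rw [hpow]; exact hηov')
    have := hψuniq η hη (by rw [hinner]; exact hηov') (fun t => congrFun hηfix t)
    refine Subtype.ext ?_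
    rw [← hind, this]

end Cfsg.Agent.Lib.PowMap
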